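import Groth.Agent.Lib.EtCoord10.Basic
import Groth.Agent.Lib.SmoothSection.QuasiSection

/-!
# Étale charts to affine space at smooth points
-/

set_option linter.all false
set_option backward.isDefEq.respectTransparency false
set_option autoImplicit false

universe u

open CategoryTheory Limits AlgebraicGeometry KaehlerDifferential

namespace GrothLib.EtCoord10

theorem map_map_apply {X : Scheme.{u}} {A B C : X.Opensᵒᵖ} (a : A ⟶ B) (b : B ⟶ C) (c : A ⟶ C) (r : X.presheaf.obj A) :
    X.presheaf.map b (X.presheaf.map a r) = X.presheaf.map c r := by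
  rw [← CommRingCat.comp_apply, ← Functor.map_comp]
  rfl

set_option backward.isDefEq.respectTransparency.types false in
theorem smooth_over (n : Type u) [Finite n] (Y : Scheme.{u}) : Smooth (𝔸(n; Y) ↘ Y) :=
  MorphismProperty.pullback_fst (P := @Smooth) _ _ <| by
  have := isIso_of_isTerminal specULiftZIsTerminal.{u} terminalIsTerminal (terminal.from _)
  rw [← terminal.comp_from (Spec.map (CommRingCat.ofHom MvPolynomial.C)),
    MorphismProperty.cancel_right_of_respectsIso (P := @Smooth),
    HasRingHomProperty.Spec_iff (P := @Smooth), RingHom.Smooth]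
  convert! (inferInstance : Algebra.Smooth (ULift ℤ) (MvPolynomial n (ULift.{u} ℤ)))
  all_goals first | exact Algebra.algebra_ext _ _ fun _ ↦ rfl | exact ⟨inferInstance, inferInstance⟩

theorem etale_homOfVector {σ : Type u} {X S : Scheme.{u}} [IsAffine X] [IsAffine S] (f : X ⟶ S)
    (v : σ → Γ(X, ⊤)) (het : (MvPolynomial.eval₂Hom f.appTop.hom v).Etale) :
    Etale (AffineSpace.homOfVector f v) := by
  rw [← MorphismProperty.cancel_right_of_respectsIso @Etale (AffineSpace.homOfVector f v)
    (AffineSpace.isoOfIsAffine σ S).hom, HasRingHomProperty.iff_of_isAffine (P := @Etale)]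
  have key : (AffineSpace.homOfVector f v ≫ (AffineSpace.isoOfIsAffine σ S).hom).appTop =
      (Scheme.ΓSpecIso _).hom ≫ CommRingCat.ofHom (MvPolynomial.eval₂Hom f.appTop.hom v) := by
    rw [Scheme.Hom.comp_appTop, AffineSpace.isoOfIsAffine_hom_appTop, Category.assoc]
    congr 1
    ext : 1
    refine MvPolynomial.ringHom_ext (fun r => ?_) fun i => ?_
    · show (AffineSpace.homOfVector f v).appTop (MvPolynomial.eval₂Hom _ _ (MvPolynomial.C r)) = MvPolynomial.eval₂Hom _ _ (MvPolynomial.C r)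
      rw [MvPolynomial.eval₂Hom_C, MvPolynomial.eval₂Hom_C]
      rw [← CommRingCat.comp_apply, ← Scheme.Hom.comp_appTop, AffineSpace.homOfVector_over]
    · show (AffineSpace.homOfVector f v).appTop (MvPolynomial.eval₂Hom _ _ (MvPolynomial.X i)) = MvPolynomial.eval₂Hom _ _ (MvPolynomial.X i)
      rw [MvPolynomial.eval₂Hom_X', MvPolynomial.eval₂Hom_X']
      exact AffineSpace.homOfVector_appTop_coord f v i
  rw [key, CommRingCat.hom_comp]
  exact RingHom.Etale.respectsIso.2 _ (Scheme.ΓSpecIso _).commRingCatIsoToRingEquiv het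

theorem exists_chart {X Y : Scheme.{u}} (f : X ⟶ Y) [LocallyOfFinitePresentation f]
    {U : Y.Opens} (hU : IsAffineOpen U) {V : X.Opens} (hV : IsAffineOpen V) (e : V ≤ f ⁻¹ᵁ U)
    {x : X} (hx : x ∈ V) (hsm : x ∈ f.smoothLocus) (J : Set Γ(X, V))
    (hJ : letI := (f.appLE U V e).hom.toAlgebra
      ∀ b : Γ(X, V), ∃ (u : Γ(X, V)) (g : Γ(X, V)), g ∈ J ∧ u ∉ (hV.primeIdealOf ⟨x, hx⟩).asIdeal ∧
        D Γ(Y, U) Γ(X, V) g = u • D Γ(Y, U) Γ(X, V) b) :
    ∃ (t : Γ(X, V)) (_ : x ∈ X.basicOpen t) (m : ℕ) (g : Fin m → Γ(X, V)), (∀ j, g j ∈ J) ∧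
      ∀ (U' : Y.Opens) (V' : X.Opens) (e' : V' ≤ f ⁻¹ᵁ U') (hU' : U' ≤ U) (hV' : V' ≤ X.basicOpen t),
        Etale (AffineSpace.homOfVector (f.resLE U' V' e') (fun j : ULift.{u} (Fin m) =>
          V'.topIso.inv (X.presheaf.map (homOfLE (hV'.trans (X.basicOpen_le t))).op (g j.down)))) := by
  algebraize [(f.appLE U V e).hom]
  let q := (hV.primeIdealOf ⟨x, hx⟩).asIdeal
  haveI : Algebra.IsSmoothAt Γ(Y, U) q := (formallySmooth_stalkMap_iff U hU V hV e hx).mp hsm
  haveI : Algebra.FinitePresentation Γ(Y, U) Γ(X, V) :=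
    HasRingHomProperty.appLE @LocallyOfFinitePresentation f ‹_› ⟨U, hU⟩ ⟨V, hV⟩ e
  have hspan : Submodule.span (Localization.AtPrime q)
      (Set.range fun g : J => KaehlerDifferential.map Γ(Y, U) Γ(Y, U) Γ(X, V) (Localization.AtPrime q)
        (D Γ(Y, U) Γ(X, V) g)) = ⊤ := by
    rw [eq_top_iff, ← span_range_map_derivation_of_isLocalization Γ(Y, U) Γ(X, V) (Localization.AtPrime q) q.primeCompl,
      Submodule.span_le]
    rintro _ ⟨b, rfl⟩
    obtain ⟨u, g, hg, hu, hgu⟩ := hJ b
    have hu' : IsUnit (algebraMap Γ(X, V) (Localization.AtPrime q) u) :=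
      IsLocalization.map_units _ (⟨u, hu⟩ : q.primeCompl)
    rw [SetLike.mem_coe, ← Submodule.smul_mem_iff_of_isUnit _ hu', algebraMap_smul, Function.comp_apply,
      ← LinearMap.map_smul_of_tower]
    exact Submodule.subset_span ⟨⟨g, hg⟩, congrArg _ hgu⟩
  obtain ⟨t, ht, m, g, hg, het⟩ := exists_etale_coords q J hspan
  have hxt : x ∈ X.basicOpen t := by
    have := hV.fromSpec_primeIdealOf ⟨x, hx⟩
    change hV.fromSpec _ = x at this
    rw [← this]
    have h : hV.primeIdealOf ⟨x, hx⟩ ∈ hV.fromSpec ⁻¹ᵁ X.basicOpen t := by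
      rw [hV.fromSpec_preimage_basicOpen]
      exact ht
    exact h
  refine ⟨t, hxt, m, g, hg, ?_⟩
  let W := X.basicOpen t
  have hW : IsAffineOpen W := hV.basicOpen t
  have eW : W ≤ f ⁻¹ᵁ U := (X.basicOpen_le t).trans e
  haveI := hV.isLocalization_basicOpen t
  let L : Localization.Away t ≃ₐ[Γ(X, V)] Γ(X, W) := IsLocalization.algEquiv (.powers t) _ _
  let w : ULift.{u} (Fin m) → Γ(W.toScheme, ⊤) := fun j =>
    W.topIso.inv (X.presheaf.map (homOfLE (X.basicOpen_le t)).op (g j.down))
  have hetW : Etale (AffineSpace.homOfVector (f.resLE U W eW) w) := by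
    haveI : IsAffine W.toScheme := hW
    haveI : IsAffine U.toScheme := hU
    apply etale_homOfVector
    let E₁ : MvPolynomial (ULift.{u} (Fin m)) Γ(U.toScheme, ⊤) ≃+* MvPolynomial (Fin m) Γ(Y, U) :=
      (MvPolynomial.mapEquiv _ U.topIso.commRingCatIsoToRingEquiv).trans
        (MvPolynomial.renameEquiv Γ(Y, U) Equiv.ulift).toRingEquiv
    let E₂ : Localization.Away t ≃+* Γ(W.toScheme, ⊤) :=
      L.toRingEquiv.trans W.topIso.symm.commRingCatIsoToRingEquiv
    have heq : MvPolynomial.eval₂Hom (f.resLE U W eW).appTop.hom w =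
        E₂.toRingHom.comp ((MvPolynomial.aeval (R := Γ(Y, U)) fun i =>
          algebraMap Γ(X, V) (Localization.Away t) (g i)).toRingHom.comp E₁.toRingHom) := by
      refine MvPolynomial.ringHom_ext (fun r => ?_) fun i => ?_
      · have hE : E₁ (MvPolynomial.C r) = MvPolynomial.C (U.topIso.hom r) := by simp [E₁]
        show MvPolynomial.eval₂Hom _ _ (MvPolynomial.C r) = W.topIso.inv (L (MvPolynomial.aeval _ (E₁ (MvPolynomial.C r))))
        rw [hE, MvPolynomial.eval₂Hom_C, MvPolynomial.aeval_C,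
          IsScalarTower.algebraMap_apply Γ(Y, U) Γ(X, V) (Localization.Away t), L.commutes]
        show (f.resLE U W eW).app ⊤ r = _
        rw [Scheme.Hom.resLE_app_top]
        show W.topIso.inv (f.appLE U W eW (U.topIso.hom r)) =
          W.topIso.inv (X.presheaf.map (homOfLE (X.basicOpen_le t)).op (f.appLE U V e (U.topIso.hom r)))
        rw [← CommRingCat.comp_apply (f.appLE U V e), Scheme.Hom.appLE_map]
      · have hE : E₁ (MvPolynomial.X i) = MvPolynomial.X i.down := by simp [E₁]
        show MvPolynomial.eval₂Hom _ _ (MvPolynomial.X i) = W.topIso.inv (L (MvPolynomial.aeval _ (E₁ (MvPolynomial.X i))))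
        rw [hE, MvPolynomial.eval₂Hom_X', MvPolynomial.aeval_X, L.commutes]
        rfl
    rw [heq]
    exact RingHom.Etale.respectsIso.1 _ E₂ (RingHom.Etale.respectsIso.2 _ E₁ het)
  intro U' V' e' hU' hV'
  let v : ULift.{u} (Fin m) → Γ(V'.toScheme, ⊤) := fun j =>
    V'.topIso.inv (X.presheaf.map (homOfLE (hV'.trans (X.basicOpen_le t))).op (g j.down))
  show Etale (AffineSpace.homOfVector (f.resLE U' V' e') v)
  have hfac : AffineSpace.homOfVector (f.resLE U' V' e') v ≫ AffineSpace.map _ (Y.homOfLE hU') =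
      X.homOfLE hV' ≫ AffineSpace.homOfVector (f.resLE U W eW) w := by
    refine AffineSpace.hom_ext ?_ fun j => ?_
    · simp only [Category.assoc, AffineSpace.map_over, AffineSpace.homOfVector_over,
        AffineSpace.homOfVector_over_assoc, Scheme.Hom.resLE_map, Scheme.Hom.map_resLE]
      exact (Scheme.Hom.map_resLE _ _ _).symm
    · rw [Scheme.Hom.comp_appTop, Scheme.Hom.comp_appTop, CommRingCat.comp_apply, CommRingCat.comp_apply,
        AffineSpace.map_appTop_coord, AffineSpace.homOfVector_appTop_coord, AffineSpace.homOfVector_appTop_coord]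
      simp only [v, w, Scheme.homOfLE_appTop, Scheme.Opens.topIso_inv]
      symm
      refine (congrArg _ (map_map_apply _ _ (homOfLE ((Scheme.Opens.ι_image_top _).le.trans (X.basicOpen_le t))).op _)).trans ?_
      refine (map_map_apply _ _ (homOfLE ((Scheme.Opens.ι_image_top _).le.trans (hV'.trans (X.basicOpen_le t)))).op _).trans ?_
      exact (map_map_apply _ _ _ _).symm
  haveI : IsOpenImmersion (AffineSpace.map (ULift.{u} (Fin m)) (Y.homOfLE hU')) :=
    MorphismProperty.of_isPullback (AffineSpace.isPullback_map _).flip (inferInstance : IsOpenImmersion (Y.homOfLE hU'))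
  haveI : Etale (AffineSpace.homOfVector (f.resLE U' V' e') v ≫ AffineSpace.map _ (Y.homOfLE hU')) := by
    rw [hfac]
    infer_instance
  exact Etale.of_comp _ (AffineSpace.map _ (Y.homOfLE hU'))

end GrothLib.EtCoord10
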