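import Groth.Agent.Lib.SmoothSection.QuasiSection

/-!
# Differentials at a point with separable residue extension
-/

set_option linter.all false
set_option autoImplicit false

universe u

open Polynomial KaehlerDifferential

namespace GrothLib.EtCoord10

theorem exists_D_eq_smul {R B k K : Type u} [CommRing R] [CommRing B] [Algebra R B] [Field k] [Field K]
    [Algebra k K] [Algebra.IsSeparable k K] (ρ : R →+* k) (σ : B →+* K)
    (hc : ∀ r, σ (algebraMap R B r) = algebraMap k K (ρ r))
    (hρ : ∀ c : k, ∃ a d : R, ρ d ≠ 0 ∧ c * ρ d = ρ a) (b : B) :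
    ∃ (u g : B), σ g = 0 ∧ σ u ≠ 0 ∧ D R B g = u • D R B b := by
  classical
  let P := minpoly k (σ b)
  obtain ⟨d, hd, hd'⟩ := GrothLib.SmoothSection.exists_common_denominator ρ hρ P.coeffs
  have hlift : C (ρ d) * P ∈ Polynomial.lifts ρ := by
    refine (Polynomial.lifts_iff_coeff_lifts _).mpr fun n => ?_
    rw [coeff_C_mul]
    by_cases hn : P.coeff n = 0
    · exact ⟨0, by rw [hn, mul_zero, map_zero]⟩
    · obtain ⟨a, ha⟩ := hd' _ (Polynomial.coeff_mem_coeffs hn)
      exact ⟨a, by rw [mul_comm, ha]⟩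
  obtain ⟨Q, hQ⟩ := hlift
  have hQ' : Q.map ρ = C (ρ d) * P := hQ
  have hev : ∀ F : R[X], σ (aeval b F) = aeval (σ b) (F.map ρ) := fun F => by
    rw [aeval_def, hom_eval₂, show σ.comp (algebraMap R B) = (algebraMap k K).comp ρ from RingHom.ext hc,
      ← eval₂_map, ← aeval_def]
  refine ⟨aeval b (derivative Q), aeval b Q, ?_, ?_, (D R B).map_aeval Q b⟩
  · rw [hev, hQ', map_mul, minpoly.aeval, mul_zero]
  · rw [hev, ← derivative_map, hQ', derivative_C_mul, map_mul, aeval_C]
    exact mul_ne_zero ((_root_.map_ne_zero _).mpr hd)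
      ((Algebra.IsSeparable.isSeparable k (σ b)).aeval_derivative_ne_zero (minpoly.aeval k (σ b)))

end GrothLib.EtCoord10
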