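import Mathlib

/-!
# Étale coordinates at a smooth point with prescribed differentials
-/

set_option linter.all false
set_option backward.isDefEq.respectTransparency false
set_option autoImplicit false

universe u

open KaehlerDifferential TensorProduct

namespace GrothLib.EtCoord10

variable {R B : Type u} [CommRing R] [CommRing B] [Algebra R B]

theorem formallyEtale_of_mapBaseChange_bijective (P : Type u) [CommRing P] [Algebra R P] [Algebra P B]
    [IsScalarTower R P B] [Algebra.FormallySmooth R B]
    (hb : Function.Bijective (KaehlerDifferential.mapBaseChange R P B)) :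
    Algebra.FormallyEtale P B := by
  refine ⟨subsingleton_of_forall_eq 0 fun x => ?_, subsingleton_of_forall_eq 0 fun x => ?_⟩
  · obtain ⟨y, rfl⟩ := KaehlerDifferential.map_surjective R P B x
    exact (KaehlerDifferential.exact_mapBaseChange_map R P B y).mpr (hb.2 y)
  · have h1 : Algebra.H1Cotangent.δ R P B x = 0 := hb.1 <| by
      rw [map_zero]
      exact (Algebra.H1Cotangent.exact_δ_mapBaseChange R P B).apply_apply_eq_zero x
    obtain ⟨y, rfl⟩ := (Algebra.H1Cotangent.exact_map_δ R P B x).mp h1
    rw [Subsingleton.elim y 0, map_zero]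

open Algebra in
theorem exists_etale_coords [Algebra.FinitePresentation R B] (p : Ideal B) [p.IsPrime]
    [Algebra.IsSmoothAt R p] (J : Set B)
    (hspan : Submodule.span (Localization.AtPrime p)
      (Set.range fun g : J => KaehlerDifferential.map R R B (Localization.AtPrime p) (D R B g)) = ⊤) :
    ∃ (t : B) (_ : t ∉ p) (n : ℕ) (g : Fin n → B), (∀ i, g i ∈ J) ∧
      (MvPolynomial.aeval (R := R) fun i => algebraMap B (Localization.Away t) (g i)).toRingHom.Etale := by
  obtain ⟨κ, a, b₀, hb₀⟩ := Module.exists_basis_of_span_of_flat _ hspan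
  have : Finite κ := Module.Finite.finite_basis b₀
  let n := Nat.card κ
  let σ : κ ≃ Fin n := Finite.equivFin κ
  let g : Fin n → B := fun i => a (σ.symm i)
  let b := b₀.reindex σ
  have hb : ∀ i, b i = KaehlerDifferential.map R R B (Localization.AtPrime p) (D R B (g i)) := fun i => by
    simp only [b, Module.Basis.reindex_apply, hb₀, g]
  let e : (Fin n →₀ B) →ₗ[B] Ω[B⁄R] := Finsupp.linearCombination B fun i => D R B (g i)
  let l₁ : (Fin n →₀ B) →ₗ[B] (Fin n →₀ Localization.AtPrime p) :=
    Finsupp.mapRange.linearMap (Algebra.linearMap B (Localization.AtPrime p))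
  let l₂ : Ω[B⁄R] →ₗ[B] Ω[Localization.AtPrime p⁄R] := map R R B (Localization.AtPrime p)
  let eₚ : (Fin n →₀ Localization.AtPrime p) →ₗ[Localization.AtPrime p] Ω[Localization.AtPrime p⁄R] :=
    IsLocalizedModule.mapExtendScalars p.primeCompl l₁ l₂ (Localization.AtPrime p) e
  have : eₚ = b.repr.symm := by
    ext i
    trans IsLocalizedModule.map p.primeCompl l₁ l₂ e <| l₁ <| Finsupp.single i 1
    · simp [eₚ, -IsLocalizedModule.map_apply, l₁]
    · simp [l₂, e, hb]
  have heₚ : Function.Bijective eₚ := this ▸ b.repr.symm.bijective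
  obtain ⟨r, hr, hmul⟩ := exists_bijective_map_powers p.primeCompl l₁ l₂ e heₚ
  obtain ⟨s, hs, hsm⟩ := IsSmoothAt.exists_notMem_smooth R p
  let t := r * s
  have h := hmul t (dvd_mul_right r s)
  have : Algebra.FormallySmooth R (Localization.Away t) := by
    rw [← basicOpen_subset_smoothLocus_iff]
    refine (SetLike.coe_subset_coe.mpr (PrimeSpectrum.basicOpen_mul_le_right r s)).trans ?_
    exact basicOpen_subset_smoothLocus_iff.mpr hsm.formallySmooth
  let l₁ₜ : (Fin n →₀ B) →ₗ[B] (Fin n →₀ Localization.Away t) :=
    Finsupp.mapRange.linearMap (Algebra.linearMap B _)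
  let l₂ₜ : Ω[B⁄R] →ₗ[B] Ω[Localization.Away t⁄R] := map R R B (Localization.Away t)
  rw [← IsLocalizedModule.map_bijective_iff_localizedModuleMap_bijective l₁ₜ l₂ₜ] at h
  let eₜ : (Fin n →₀ Localization.Away t) →ₗ[Localization.Away t] Ω[Localization.Away t⁄R] :=
    IsLocalizedModule.mapExtendScalars (Submonoid.powers t) l₁ₜ l₂ₜ (Localization.Away t) e
  have heₜ : ∀ i, eₜ (Finsupp.single i 1) = D R _ (algebraMap B (Localization.Away t) (g i)) := fun i => by
    trans IsLocalizedModule.map (Submonoid.powers t) l₁ₜ l₂ₜ e <| l₁ₜ <| Finsupp.single i 1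
    · simp [eₜ, -IsLocalizedModule.map_apply, l₁ₜ]
    · simp [l₂ₜ, e]
  refine ⟨t, ‹p.IsPrime›.mul_notMem hr hs, n, g, fun i => (a (σ.symm i)).2, ?_⟩
  let P := MvPolynomial (Fin n) R
  let φ : P →ₐ[R] Localization.Away t := MvPolynomial.aeval fun i => algebraMap B (Localization.Away t) (g i)
  algebraize [φ.toRingHom]
  have : IsScalarTower R P (Localization.Away t) := IsScalarTower.of_algebraMap_eq' φ.comp_algebraMap.symm
  let bP := (KaehlerDifferential.mvPolynomialBasis R (Fin n)).baseChange (Localization.Away t)
  have hmb : KaehlerDifferential.mapBaseChange R P (Localization.Away t) =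
      eₜ ∘ₗ bP.repr.toLinearMap := by
    refine bP.ext fun i => ?_
    rw [LinearMap.comp_apply, LinearEquiv.coe_coe, bP.repr_self, heₜ]
    simp only [bP, Module.Basis.baseChange_apply, KaehlerDifferential.mvPolynomialBasis_apply]
    erw [mapBaseChange_tmul, map_D, one_smul]
    exact congrArg (D R _) (MvPolynomial.aeval_X _ i)
  have : Algebra.FormallyEtale P (Localization.Away t) :=
    formallyEtale_of_mapBaseChange_bijective P (by
      rw [hmb]
      exact h.comp bP.repr.bijective)
  have : Algebra.FinitePresentation R (Localization.Away t) :=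
    Algebra.FinitePresentation.trans R B (Localization.Away t)
  have : Algebra.FinitePresentation P (Localization.Away t) :=
    Algebra.FinitePresentation.of_restrict_scalars_finitePresentation R P (Localization.Away t)
  exact RingHom.etale_algebraMap.mpr (⟨inferInstance, inferInstance⟩ : Algebra.Etale P (Localization.Away t))

end GrothLib.EtCoord10
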