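import Mathlib

/-!
# Smoothness over the affine line at a point where a differential does not vanish
-/

set_option linter.all false
set_option backward.isDefEq.respectTransparency false
set_option autoImplicit false

universe u

open KaehlerDifferential TensorProduct IsLocalRing

namespace GrothLib.EtCoord10

theorem formallySmooth_of_mapBaseChange_split {R P B : Type u} [CommRing R] [CommRing P] [CommRing B]
    [Algebra R P] [Algebra P B] [Algebra R B] [IsScalarTower R P B] [Algebra.FormallySmooth R B]
    (r : Ω[B⁄R] →ₗ[B] B ⊗[P] Ω[P⁄R])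
    (hr : r ∘ₗ KaehlerDifferential.mapBaseChange R P B = LinearMap.id) : Algebra.FormallySmooth P B := by
  have hinj : Function.Injective (KaehlerDifferential.mapBaseChange R P B) :=
    Function.LeftInverse.injective (g := r) fun x => LinearMap.congr_fun hr x
  refine ⟨?_, subsingleton_of_forall_eq 0 fun x => ?_⟩
  · let π := KaehlerDifferential.map R P B B
    let pr : Ω[B⁄R] →ₗ[B] Ω[B⁄R] := LinearMap.id - KaehlerDifferential.mapBaseChange R P B ∘ₗ r
    have hker : LinearMap.ker π ≤ LinearMap.ker pr := fun y hy => by
      obtain ⟨z, rfl⟩ := (KaehlerDifferential.exact_mapBaseChange_map R P B y).mp hy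
      show _ - KaehlerDifferential.mapBaseChange R P B (r (KaehlerDifferential.mapBaseChange R P B z)) = 0
      rw [show r (KaehlerDifferential.mapBaseChange R P B z) = z from LinearMap.congr_fun hr z]
      exact sub_self _
    have hπ : Function.Surjective π := KaehlerDifferential.map_surjective R P B
    let s : Ω[B⁄P] →ₗ[B] Ω[B⁄R] :=
      (Submodule.liftQ _ pr hker) ∘ₗ (π.quotKerEquivOfSurjective hπ).symm.toLinearMap
    refine Module.Projective.of_split s π (LinearMap.ext fun y => ?_)
    obtain ⟨z, rfl⟩ := hπ y
    have hs : s (π z) = pr z := by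
      show Submodule.liftQ _ pr hker ((π.quotKerEquivOfSurjective hπ).symm (π z)) = _
      rw [show π z = π.quotKerEquivOfSurjective hπ (Submodule.Quotient.mk z) from rfl,
        LinearEquiv.symm_apply_apply, Submodule.liftQ_apply]
    show π (s (π z)) = π z
    rw [hs]
    show π (z - KaehlerDifferential.mapBaseChange R P B (r z)) = π z
    rw [map_sub, (KaehlerDifferential.exact_mapBaseChange_map R P B).apply_apply_eq_zero, sub_zero]
  · have h1 : Algebra.H1Cotangent.δ R P B x = 0 := hinj <| by
      rw [map_zero]
      exact (Algebra.H1Cotangent.exact_δ_mapBaseChange R P B).apply_apply_eq_zero x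
    obtain ⟨y, rfl⟩ := (Algebra.H1Cotangent.exact_map_δ R P B x).mp h1
    rw [Subsingleton.elim y 0, map_zero]

theorem formallySmooth_polynomial {k L : Type u} [CommRing k] [CommRing L] [IsLocalRing L] [Algebra k L]
    [Algebra.FormallySmooth k L] [Algebra.EssFiniteType k L] [Algebra (Polynomial k) L]
    [IsScalarTower k (Polynomial k) L]
    (h : D k L (algebraMap (Polynomial k) L Polynomial.X) ∉ maximalIdeal L • (⊤ : Submodule L Ω[L⁄k])) :
    Algebra.FormallySmooth (Polynomial k) L := by
  set w := D k L (algebraMap (Polynomial k) L Polynomial.X) with hw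
  haveI : Module.Free L Ω[L⁄k] := Module.free_of_flat_of_isLocalRing
  let b := Module.Free.chooseBasis L Ω[L⁄k]
  obtain ⟨i, hi⟩ : ∃ i, IsUnit (b.repr w i) := by
    by_contra hne
    push Not at hne
    refine h ?_
    rw [← b.linearCombination_repr w, Finsupp.linearCombination_apply]
    exact Submodule.sum_mem _ fun i _ => Submodule.smul_mem_smul ((mem_maximalIdeal _).mpr (hne i)) trivial
  let bP : Module.Basis Unit (Polynomial k) Ω[Polynomial k⁄k] :=
    (Module.Basis.singleton Unit (Polynomial k)).map (KaehlerDifferential.polynomialEquiv k).symm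
  have hbP : bP () = D k (Polynomial k) Polynomial.X := by
    apply (KaehlerDifferential.polynomialEquiv k).injective
    simp [bP, KaehlerDifferential.polynomialEquiv_D]
  refine formallySmooth_of_mapBaseChange_split
    (LinearMap.toSpanSingleton L _ (bP.baseChange L ()) ∘ₗ ((hi.unit⁻¹ : Lˣ).val • b.coord i)) ?_
  refine (bP.baseChange L).ext fun u => ?_
  cases u
  simp only [LinearMap.comp_apply, Module.Basis.baseChange_apply, LinearMap.id_coe, id_eq, hbP]
  erw [mapBaseChange_tmul, map_D, one_smul]
  rw [← hw, LinearMap.smul_apply, Module.Basis.coord_apply, smul_eq_mul, IsUnit.val_inv_mul, LinearMap.toSpanSingleton_apply,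
    one_smul]

theorem isMaximal_of_top {k A : Type u} [Field k] [CommRing A] [Algebra k A] [Algebra.FiniteType k A]
    (q : Ideal A) [q.IsPrime]
    (h : ∀ a : A, D k (Localization.AtPrime q) (algebraMap A _ a) ∈
      maximalIdeal (Localization.AtPrime q) • (⊤ : Submodule (Localization.AtPrime q) Ω[Localization.AtPrime q⁄k])) :
    q.IsMaximal := by
  let L := Localization.AtPrime q
  haveI : Algebra.EssFiniteType A L := Algebra.EssFiniteType.of_isLocalization L q.primeCompl
  haveI : Algebra.EssFiniteType k L := Algebra.EssFiniteType.comp k A L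
  have htop : (⊤ : Submodule L Ω[L⁄k]) ≤ maximalIdeal L • ⊤ := by
    rw [← span_range_map_derivation_of_isLocalization k A L q.primeCompl, Submodule.span_le]
    rintro _ ⟨a, rfl⟩
    rw [span_range_map_derivation_of_isLocalization k A L q.primeCompl, Function.comp_apply, map_D]
    exact h a
  have hbot : (⊤ : Submodule L Ω[L⁄k]) = ⊥ :=
    Submodule.eq_bot_of_le_smul_of_le_jacobson_bot _ _ Module.Finite.fg_top htop
      (maximalIdeal_le_jacobson _)
  haveI : Algebra.FormallyUnramified k L := ⟨subsingleton_of_forall_eq 0 fun x =>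
    (Submodule.mem_bot L).mp (hbot ▸ (trivial : x ∈ (⊤ : Submodule L Ω[L⁄k])))⟩
  haveI : Module.Finite k L := Algebra.FormallyUnramified.finite_of_free k L
  haveI : Module.Finite k (ResidueField L) :=
    Module.Finite.of_surjective (IsScalarTower.toAlgHom k L (ResidueField L)).toLinearMap residue_surjective
  let ψ : (A ⧸ q) →ₐ[k] ResidueField L := Ideal.Quotient.liftₐ q ((IsScalarTower.toAlgHom k L (ResidueField L)).comp
    (IsScalarTower.toAlgHom k A L)) fun a ha =>
      residue_eq_zero_iff _ |>.mpr ((IsLocalization.AtPrime.to_map_mem_maximal_iff L q a).mpr ha)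
  have hψ : Function.Injective ψ := by
    rw [injective_iff_map_eq_zero]
    intro x
    obtain ⟨a, rfl⟩ := Ideal.Quotient.mk_surjective x
    intro ha
    exact Ideal.Quotient.eq_zero_iff_mem.mpr
      ((IsLocalization.AtPrime.to_map_mem_maximal_iff L q a).mp ((residue_eq_zero_iff _).mp ha))
  haveI : Module.Finite k (A ⧸ q) := Module.Finite.of_injective ψ.toLinearMap hψ
  haveI : Algebra.IsIntegral k (A ⧸ q) := Algebra.IsIntegral.of_finite k _
  exact Ideal.Quotient.maximal_of_isField q
    (isField_of_isIntegral_of_isField' (R := k) (Field.toIsField k))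

end GrothLib.EtCoord10
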